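import Mathlib

/-!
Tables for the plane over the field of four elements, and evaluation of bit vectors in an
elementary abelian family.
-/

set_option autoImplicit false

namespace Cfsg.Agent.H87.Fi23A

/-- Addition of the field of four elements. -/
def add4 (a b : Fin 4) : Fin 4 := ![![0, 1, 2, 3], ![1, 0, 3, 2], ![2, 3, 0, 1], ![3, 2, 1, 0]] a b

/-- Multiplication of the field of four elements. -/
def mul4 (a b : Fin 4) : Fin 4 := ![![0, 0, 0, 0], ![0, 1, 2, 3], ![0, 2, 3, 1], ![0, 3, 1, 2]] a b

/-- Conjugation of the field of four elements. -/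
def conj4 (a : Fin 4) : Fin 4 := ![0, 1, 3, 2] a

/-- Sum of two vectors. -/
def vadd4 (u v : Fin 3 → Fin 4) : Fin 3 → Fin 4 := fun k => add4 (u k) (v k)

/-- A multiple of a vector. -/
def vsmul4 (c : Fin 4) (v : Fin 3 → Fin 4) : Fin 3 → Fin 4 := fun k => mul4 c (v k)

/-- The 21 points of the plane. -/
def pts : Fin 21 → Fin 3 → Fin 4 :=
  ![![1,0,0], ![1,0,1], ![1,0,2], ![1,0,3], ![1,1,0], ![1,1,1], ![1,1,2], ![1,1,3],
    ![1,2,0], ![1,2,1], ![1,2,2], ![1,2,3], ![1,3,0], ![1,3,1], ![1,3,2], ![1,3,3],
    ![0,1,0], ![0,1,1], ![0,1,2], ![0,1,3], ![0,0,1]]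

/-- The three triples of points with central products. -/
def rows : Fin 3 → Fin 3 → Fin 21 := ![![5, 11, 14], ![6, 9, 15], ![7, 13, 10]]

/-- The first of the two rows with equal products. -/
def rowI : Fin 3 → Fin 3 := ![1, 0, 0]

/-- The second of the two rows with equal products. -/
def rowJ : Fin 3 → Fin 3 := ![2, 2, 1]

/-- Ten lines: a point and four further points. -/
def steps : List (Fin 21 × (Fin 21 × Fin 21 × Fin 21 × Fin 21)) :=
  [(17, 0, 5, 10, 15), (18, 0, 6, 11, 13), (19, 0, 7, 9, 14), (4, 1, 11, 14, 17),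
   (16, 1, 5, 9, 13), (8, 1, 6, 15, 19), (12, 1, 7, 10, 18), (2, 4, 9, 15, 18),
   (3, 4, 10, 13, 19), (20, 4, 5, 6, 7)]

/-- The generators, by pattern; the last is dropped in the quotient. -/
def gens : Fin 3 → List (Fin 22) :=
  ![[21, 11, 14, 6, 9, 15, 13, 10, 0, 1, 5],
    [21, 5, 11, 14, 9, 15, 13, 10, 0, 1, 6],
    [21, 5, 11, 14, 9, 15, 13, 10, 0, 1, 7]]

/-- The coordinates of the 22 members, by pattern. -/
def coord : Fin 3 → Fin 22 → ℕ :=
  ![![256, 512, 1756, 1674, 1958, 1024, 8, 248, 964, 16, 128, 2, 818, 64, 4, 32, 1617, 1441, 331,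
      493, 855, 1],
    ![256, 512, 1754, 696, 942, 2, 1024, 206, 2038, 16, 128, 4, 1802, 64, 8, 32, 595, 419, 1349,
      471, 1891, 1],
    ![256, 512, 740, 1654, 942, 2, 62, 1024, 1798, 16, 128, 4, 2042, 64, 8, 32, 595, 419, 379,
      1305, 1939, 1]]

/-- The coordinates of the dropped generator in the quotient. -/
def extra : Fin 3 → ℕ := ![63, 63, 207]

/-- The coordinates in the quotient. -/
def qcoord (k : Fin 3) (i : Fin 22) : ℕ :=
  if (coord k i).testBit 10 then (coord k i ^^^ extra k) % 1024 else coord k i % 1024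

/-- The 22 single coordinates. -/
def singles (k : Fin 3) : List ℕ := (List.finRange 22).map (qcoord k)

/-- The pairs of positions. -/
def pairIdx : List (Fin 22 × Fin 22) :=
  (List.finRange 22).flatMap fun i => ((List.finRange 22).filter fun j => i < j).map fun j => (i, j)

/-- The triples of positions starting at `i`. -/
def tripleIdx (i : Fin 22) : List (Fin 22 × Fin 22) :=
  pairIdx.filter fun p => i < p.1

/-- The pair coordinates. -/
def doubles (k : Fin 3) : List ℕ := pairIdx.map fun p => qcoord k p.1 ^^^ qcoord k p.2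

/-- The triple coordinates starting at `i`. -/
def triplesC (k : Fin 3) (i : Fin 22) : List ℕ :=
  (tripleIdx i).map fun p => qcoord k i ^^^ qcoord k p.1 ^^^ qcoord k p.2

/-- The set of a list as a bit mask. -/
def mask : List ℕ → ℕ
  | [] => 0
  | v :: l => 2 ^ v ||| mask l

theorem testBit_mask : ∀ (l : List ℕ) (x : ℕ), (mask l).testBit x = decide (x ∈ l)
  | [], x => by simp [mask]
  | v :: l, x => by
    rw [mask, Nat.testBit_or, testBit_mask l x, Nat.testBit_two_pow]
    by_cases h : v = x <;> simp [h, eq_comm]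

/-- The mask of all triples. -/
def tripleMask (k : Fin 3) : ℕ :=
  ((List.finRange 22).map fun i => mask (triplesC k i)).foldr (· ||| ·) 0

theorem testBit_tripleMask (k : Fin 3) (x : ℕ) :
    (tripleMask k).testBit x = true ↔ ∃ i, x ∈ triplesC k i := by
  have : ∀ l : List (Fin 22), (((l.map fun i => mask (triplesC k i)).foldr (· ||| ·) 0).testBit x =
      true ↔ ∃ i ∈ l, x ∈ triplesC k i) := by
    intro l
    induction l with
    | nil => simp
    | cons i l ih => simp [Nat.testBit_or, testBit_mask, ih]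
  rw [tripleMask, this]
  simp

section ev

variable {K : Type*} [Group K]

/-- The product of the members at the set bits. -/
def ev : List K → ℕ → K
  | [], _ => 1
  | x :: xs, n => (if n.testBit 0 then x else 1) * ev xs (n / 2)

theorem ev_zero : ∀ g : List K, ev g 0 = 1
  | [] => rfl
  | x :: xs => by simp [ev, ev_zero xs]

theorem ev_mem {S : Subgroup K} : ∀ {g : List K}, (∀ x ∈ g, x ∈ S) → ∀ n, ev g n ∈ S
  | [], _, _ => one_mem S
  | x :: xs, h, n => by
    refine mul_mem ?_ (ev_mem (fun y hy => h y (List.mem_cons_of_mem _ hy)) _)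
    split
    · exact h x (List.mem_cons_self ..)
    · exact one_mem S

theorem ev_map {L : Type*} [Group L] (f : K →* L) :
    ∀ (g : List K) (n : ℕ), f (ev g n) = ev (g.map f) n
  | [], _ => map_one f
  | x :: xs, n => by
    show f (_ * _) = _ * _
    rw [map_mul, ev_map f xs, apply_ite f, map_one]

theorem ev_xor : ∀ {g : List K}, (∀ x ∈ g, x * x = 1) → (∀ x ∈ g, ∀ y ∈ g, Commute x y) →
    ∀ n m, ev g (n ^^^ m) = ev g n * ev g m
  | [], _, _, _, _ => (one_mul 1).symm
  | x :: xs, h2, hc, n, m => by
    have ih := ev_xor (g := xs) (fun y hy => h2 y (List.mem_cons_of_mem _ hy))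
      (fun y hy y' hy' => hc y (List.mem_cons_of_mem _ hy) y' (List.mem_cons_of_mem _ hy'))
    have hx : ∀ k, Commute x (ev xs k) := fun k => by
      have hm : ev xs k ∈ Subgroup.centralizer ({x} : Set K) :=
        ev_mem (S := Subgroup.centralizer ({x} : Set K)) (fun y hy =>
          Subgroup.mem_centralizer_singleton_iff.2
            (hc y (List.mem_cons_of_mem _ hy) x (List.mem_cons_self ..)).eq) k
      exact (Subgroup.mem_centralizer_singleton_iff.1 hm).symm
    have hxx := h2 x (List.mem_cons_self ..)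
    show (if (n ^^^ m).testBit 0 then x else 1) * ev xs ((n ^^^ m) / 2) = _
    have e : (n ^^^ m) / 2 = n / 2 ^^^ m / 2 := by
      simp only [← Nat.shiftRight_one, Nat.shiftRight_xor_distrib]
    rw [e, ih, Nat.testBit_xor]
    show _ = (if n.testBit 0 then x else 1) * ev xs (n / 2) *
      ((if m.testBit 0 then x else 1) * ev xs (m / 2))
    cases n.testBit 0 <;> cases m.testBit 0
    · simp
    · simp only [Bool.false_xor, if_true, Bool.false_eq_true, if_false, one_mul]
      rw [← mul_assoc, ← mul_assoc, (hx _).eq]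
    · simp [mul_assoc]
    · simp only [bne_self_eq_false, Bool.false_eq_true, if_false, if_true, one_mul]
      rw [mul_assoc x, ← mul_assoc (ev xs (n / 2)) x, ← (hx _).eq, ← mul_assoc, ← mul_assoc,
        hxx, one_mul]

theorem ev_mod : ∀ (g : List K) (n : ℕ), ev g (n % 2 ^ g.length) = ev g n
  | [], _ => rfl
  | x :: xs, n => by
    show _ * _ = _ * _
    congr 1
    · rw [List.length_cons, Nat.testBit_mod_two_pow]
      simp
    · rw [← ev_mod xs (n / 2), List.length_cons, pow_succ', Nat.mod_mul_right_div_self]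

theorem ev_append_singleton : ∀ (g : List K) (x : K) (n : ℕ),
    ev (g ++ [x]) n = ev g n * (if n.testBit g.length then x else 1)
  | [], x, n => by simp [ev]
  | y :: g, x, n => by
    show _ * ev (g ++ [x]) (n / 2) = _
    rw [ev_append_singleton g x, List.length_cons, ← mul_assoc]
    congr 2
    rw [Nat.testBit_succ]

end ev

/-- The certificate of the coordinates. -/
theorem coord_cert : ∀ k : Fin 3,
    (∀ b : Fin 11, coord k ((gens k).getD b.val 0) = 2 ^ b.val) ∧
    coord k ((rows (rowJ k) 0).castSucc) =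
      coord k (rows (rowI k) 0).castSucc ^^^ coord k (rows (rowI k) 1).castSucc ^^^
        coord k (rows (rowI k) 2).castSucc ^^^ coord k (rows (rowJ k) 1).castSucc ^^^
        coord k (rows (rowJ k) 2).castSucc ∧
    steps.all (fun s => coord k s.1.castSucc == (1 ^^^ coord k s.2.1.castSucc ^^^
      coord k s.2.2.1.castSucc ^^^ coord k s.2.2.2.1.castSucc ^^^ coord k s.2.2.2.2.castSucc)) = true ∧
    extra k = 1 ^^^ coord k (rows k 1).castSucc ^^^ coord k (rows k 2).castSucc ^^^
      coord k (rows (rowI k) 0).castSucc ^^^ coord k (rows (rowI k) 1).castSucc ^^^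
      coord k (rows (rowI k) 2).castSucc ∧
    (gens k).getD 10 0 = (rows k 0).castSucc ∧ (gens k).getD 0 0 = 21 ∧
    (gens k).length = 11 ∧ (∀ i, coord k i < 2048) := by
  decide +kernel

set_option maxRecDepth 100000 in
/-- Singles, pairs and triples exhaust the coordinates and do not meet. -/
theorem cover_cert : ∀ k : Fin 3,
    mask (singles k) ||| mask (doubles k) ||| tripleMask k = 2 ^ 1024 - 2 ∧
    mask (singles k) &&& mask (doubles k) = 0 ∧ mask (singles k) &&& tripleMask k = 0 ∧
    mask (doubles k) &&& tripleMask k = 0 := by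
  decide +kernel

end Cfsg.Agent.H87.Fi23A
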