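import Cfsg.Agent.H17.Core
import Cfsg.Agent.H43.FischerTwins

/-!
A conjugacy class of 3-transpositions in which the centralizer of a member is perfect, generated
by its partners and transitive on them: it generates, conjugation on it is primitive and the centre
of the group is trivial.
-/

set_option autoImplicit false

namespace Cfsg.Agent.H87.Fi23A

open Cfsg.Agent.H43.FischerTwins
open scoped Pointwise

variable {G : Type*} [Group G]

/-- The image of a set under conjugation. -/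
def cjs (g : G) (B : Set G) : Set G := (fun x => g * x * g⁻¹) '' B

theorem cjs_mul (g k : G) (B : Set G) : cjs (g * k) B = cjs g (cjs k B) := by
  simp only [cjs, Set.image_image]
  congr 1; ext x; group

theorem cjs_one (B : Set G) : cjs 1 B = B := by simp [cjs]

theorem mem_cjs {g x : G} {B : Set G} : g * x * g⁻¹ ∈ cjs g B ↔ x ∈ B :=
  ⟨fun ⟨_, hy, e⟩ => mul_left_cancel (mul_right_cancel e) ▸ hy, fun h => ⟨x, h, rfl⟩⟩

/-- Primitive class from the star of one member. -/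
theorem class_of_star {d : G} (hset : Cfsg.IsThreeTranspositionSet (conjugatesOf d))
    (hgen : Subgroup.closure (Sset (conjugatesOf d) d) = Subgroup.centralizer ({d} : Set G))
    (hperf : commutator ↥(Subgroup.centralizer ({d} : Set G)) = ⊤)
    (hcen : ∀ u, Commute u d → (∀ v, Commute v d → Commute u v) → u = 1 ∨ u = d)
    (htr : ∀ x ∈ Sset (conjugatesOf d) d, ∀ y ∈ Sset (conjugatesOf d) d,
      ∃ g, Commute g d ∧ g * x * g⁻¹ = y)
    (hnc : ∃ x ∈ Sset (conjugatesOf d) d, ∃ y ∈ Sset (conjugatesOf d) d, ¬ Commute x y) :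
    Cfsg.IsThreeTranspositionClass (conjugatesOf d) ∧
      Cfsg.IsPrimitiveUnderConj (conjugatesOf d) ∧ Subgroup.center G = ⊥ := by
  classical
  obtain ⟨D, hD⟩ : ∃ D, D = conjugatesOf d := ⟨_, rfl⟩
  rw [← hD] at hset hgen htr hnc ⊢
  have hdD : d ∈ D := hD ▸ mem_conjugatesOf_self
  have hconj : ∀ g : G, ∀ x ∈ D, g * x * g⁻¹ ∈ D := fun g x hx => by
    rw [hD] at hx ⊢
    exact (show IsConj d x from hx).trans (isConj_iff.2 ⟨g, rfl⟩)
  have htrans : ∀ x ∈ D, ∃ g : G, g * d * g⁻¹ = x := fun x hx => by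
    rw [hD] at hx
    exact isConj_iff.1 hx
  have sq := fun {x : G} (hx : x ∈ D) => H17.sq_one hset hx
  have inv := fun {x : G} (hx : x ∈ D) => H17.inv_self hset hx
  have braid := fun {x y : G} (hx : x ∈ D) (hy : y ∈ D) (h : ¬ Commute x y) =>
    H17.braid hset hx hy h
  -- a member moving the given one
  obtain ⟨c₀, hc₀, hdc₀⟩ : ∃ c ∈ D, ¬ Commute d c := by
    obtain ⟨p, hp, q, hq, hpq⟩ := hnc
    obtain ⟨g, rfl⟩ := htrans p hp.1
    refine ⟨g⁻¹ * q * g⁻¹⁻¹, hconj _ q hq.1, fun h => hpq ?_⟩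
    rw [← H17.commute_conj g, show g * (g⁻¹ * q * g⁻¹⁻¹) * g⁻¹ = q by group] at h
    exact h
  have hdgen : d ∈ Subgroup.closure (Sset D d) := by
    rw [hgen, Subgroup.mem_centralizer_singleton_iff]
  have hC : ∀ {g : G}, Commute g d → g ∈ Subgroup.closure (Sset D d) := fun {g} h => by
    rw [hgen, Subgroup.mem_centralizer_singleton_iff]; exact h.eq
  have hC' : ∀ {g : G}, g ∈ Subgroup.closure (Sset D d) → Commute g d := fun {g} h => by
    rwa [hgen, Subgroup.mem_centralizer_singleton_iff] at h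
  -- a member commuting with the whole star commutes with `d`
  have hstar : ∀ c, (∀ e ∈ Sset D d, Commute c e) → Commute c d := fun c h => by
    have hle : Subgroup.closure (Sset D d) ≤ Subgroup.centralizer ({c} : Set G) :=
      (Subgroup.closure_le _).2 fun e he =>
        Subgroup.mem_centralizer_singleton_iff.2 (h e he).eq.symm
    exact (show Commute d c from Subgroup.mem_centralizer_singleton_iff.1 (hle hdgen)).symm
  -- generation
  have hN : (Subgroup.closure D).Normal := ⟨fun n hn g => by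
    induction hn using Subgroup.closure_induction with
    | mem x hx => exact Subgroup.subset_closure (hconj g x hx)
    | one => simp
    | mul a b _ _ ha hb =>
      rw [show g * (a * b) * g⁻¹ = g * a * g⁻¹ * (g * b * g⁻¹) by group]; exact mul_mem ha hb
    | inv a _ ha => rw [show g * a⁻¹ * g⁻¹ = (g * a * g⁻¹)⁻¹ by group]; exact inv_mem ha⟩
  let P : G → Prop := fun x => ∃ n ∈ Subgroup.closure D, n * d * n⁻¹ = x
  have hstep : ∀ a ∈ D, ∀ b ∈ D, ¬ Commute a b → P a → P b := by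
    rintro a ha b hb hab ⟨n, hn, rfl⟩
    refine ⟨n * d * n⁻¹ * b * n,
      mul_mem (mul_mem (Subgroup.subset_closure ha) (Subgroup.subset_closure hb)) hn, ?_⟩
    calc n * d * n⁻¹ * b * n * d * (n * d * n⁻¹ * b * n)⁻¹
        = n * d * n⁻¹ * b * (n * d * n⁻¹) * b⁻¹ * (n * d * n⁻¹)⁻¹ := by group
      _ = b * (n * d * n⁻¹) * b * b⁻¹ * (n * d * n⁻¹)⁻¹ := by rw [braid ha hb hab]
      _ = b := by group
  have hPd : P d := ⟨1, one_mem _, by simp⟩
  have hPstar : ∀ x ∈ Sset D d, P x := by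
    intro x hx
    by_contra hPx
    have hall : ∀ y ∈ Sset D d, ¬ P y := by
      rintro y hy ⟨n, hn, hny⟩
      obtain ⟨g, hgd, hgy⟩ := htr y hy x hx
      refine hPx ⟨g * n * g⁻¹, hN.conj_mem n hn g, ?_⟩
      calc g * n * g⁻¹ * d * (g * n * g⁻¹)⁻¹ = g * (n * (g⁻¹ * (d * g)) * n⁻¹) * g⁻¹ := by group
        _ = x := by rw [← hgd.eq, inv_mul_cancel_left, hny, hgy]
    refine hdc₀ (hstar c₀ fun e he => ?_).symm
    by_contra hce
    exact hall e he (hstep c₀ hc₀ e he.1 hce (hstep d hdD c₀ hc₀ hdc₀ hPd))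
  have hPall : ∀ x ∈ D, P x := by
    intro x hx
    by_cases hdx : Commute d x
    · by_cases e : x = d
      · exact e ▸ hPd
      · exact hPstar x ⟨hx, e, hdx⟩
    · exact hstep d hdD x hx hdx hPd
  have htop : Subgroup.closure D = ⊤ := by
    refine eq_top_iff.2 fun g _ => ?_
    obtain ⟨n, hn, e⟩ := hPall _ (hconj g d hdD)
    have hc : Commute (n⁻¹ * g) d := by
      show n⁻¹ * g * d = d * (n⁻¹ * g)
      calc n⁻¹ * g * d = n⁻¹ * (g * d * g⁻¹) * g := by group
        _ = d * (n⁻¹ * g) := by rw [← e]; group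
    have := mul_mem hn (Subgroup.closure_mono (fun y hy => hy.1) (hC hc))
    rwa [mul_inv_cancel_left] at this
  refine ⟨⟨hset, ⟨d, hdD, hD⟩, htop⟩, ⟨fun a ha b hb => ?_, ⟨d, hdD, c₀, hc₀, fun e =>
    hdc₀ (e ▸ Commute.refl d)⟩, fun B₀ hB₀D hB₀ => ?_⟩, ?_⟩
  · obtain ⟨g, rfl⟩ := htrans a ha
    obtain ⟨k, rfl⟩ := htrans b hb
    exact ⟨k * g⁻¹, by group⟩
  swap
  · rw [eq_bot_iff]
    intro u hu
    have hu' : ∀ v, Commute u v := fun v => (Subgroup.mem_center_iff.1 hu v).symm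
    rcases hcen u (hu' d) fun v _ => hu' v with h | h
    · exact h
    · exact absurd (h ▸ hu' c₀) hdc₀
  -- blocks
  rcases B₀.subsingleton_or_nontrivial with hs | hnt
  · exact Or.inl hs
  refine Or.inr ?_
  obtain ⟨b₀, hb₀⟩ := hnt.nonempty
  obtain ⟨g₀, hg₀⟩ := htrans b₀ (hB₀D hb₀)
  obtain ⟨B, hB⟩ : ∃ B, B = cjs g₀⁻¹ B₀ := ⟨_, rfl⟩
  have hBD : B ⊆ D := by
    rw [hB]
    rintro _ ⟨x, hx, rfl⟩
    exact hconj _ x (hB₀D hx)
  have hdB : d ∈ B := hB ▸ ⟨b₀, hb₀, by rw [← hg₀]; group⟩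
  have block : ∀ g : G, cjs g B = B ∨ Disjoint (cjs g B) B := by
    intro g
    rw [hB, ← cjs_mul]
    rcases hB₀ (g₀ * g * g₀⁻¹) with e | e
    · left
      calc cjs (g * g₀⁻¹) B₀ = cjs g₀⁻¹ (cjs (g₀ * g * g₀⁻¹) B₀) := by
            rw [← cjs_mul]; congr 1; group
        _ = cjs g₀⁻¹ B₀ := by rw [show cjs (g₀ * g * g₀⁻¹) B₀ = B₀ from e]
    · right
      rw [show g * g₀⁻¹ = g₀⁻¹ * (g₀ * g * g₀⁻¹) by group, cjs_mul]
      exact (Set.disjoint_image_iff (f := fun x => g₀⁻¹ * x * g₀⁻¹⁻¹)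
        fun _ _ h => mul_left_cancel (mul_right_cancel h)).2 e
  have meet : ∀ {g k x : G}, x ∈ cjs g B → x ∈ cjs k B → cjs g B = cjs k B := by
    intro g k x hxg hxk
    rcases block (k⁻¹ * g) with e | e
    · calc cjs g B = cjs k (cjs (k⁻¹ * g) B) := by rw [← cjs_mul, mul_inv_cancel_left]
        _ = cjs k B := by rw [e]
    · exfalso
      obtain ⟨y, hy, rfl⟩ := hxk
      refine Set.disjoint_left.1 e ?_ hy
      rw [cjs_mul]
      exact ⟨_, hxg, by group⟩
  have fixB : ∀ {g x : G}, x ∈ B → g * x * g⁻¹ ∈ B → cjs g B = B := fun {g x} hx hgx => by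
    have := meet (g := g) (k := 1) (mem_cjs.2 hx) (by rwa [cjs_one])
    rwa [cjs_one] at this
  have pair : ∀ {c e : G}, c ∈ D → e ∈ Sset D d → ¬ Commute c d → ¬ Commute c e →
      Commute c ((e * d) * c * (e * d)⁻¹) ∧ (e * d) * c * (e * d)⁻¹ ≠ c := by
    intro c e hc he hcd hce
    obtain ⟨φ, f1, f2, f3⟩ := H17.SymSmall.exists_hom_four (a := e) (b := c) (c := d)
      ⟨sq he.1, sq hc, sq hdD, he.2.2.eq, (braid he.1 hc fun h => hce h.symm).symm,
        (braid hc hdD hcd).symm⟩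
    refine ⟨?_, fun h => he.2.1 ?_⟩
    · have h := congrArg φ (show Equiv.swap (1 : Fin 4) 2 *
          (Equiv.swap 0 1 * Equiv.swap 2 3 * Equiv.swap 1 2 * (Equiv.swap 0 1 * Equiv.swap 2 3)⁻¹) =
        (Equiv.swap 0 1 * Equiv.swap 2 3 * Equiv.swap 1 2 * (Equiv.swap 0 1 * Equiv.swap 2 3)⁻¹) *
          Equiv.swap (1 : Fin 4) 2 by decide +kernel)
      simp only [map_mul, map_inv, f1, f2, f3] at h
      exact h
    · have h1 : d * c * d = e * c * e := by
        calc d * c * d = e⁻¹ * (e * d * c * (e * d)⁻¹) * e := by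
              conv_lhs => rw [← inv hdD]
              group
              rw [show (d ^ (-1 : ℤ)) = d by rw [zpow_neg_one, inv hdD]]
          _ = e * c * e := by rw [h, inv he.1]
      rw [braid hdD hc fun h => hcd h.symm, braid he.1 hc fun h => hce h.symm] at h1
      exact (mul_left_cancel (mul_right_cancel h1)).symm
  -- a partner of `d` lies in the block
  obtain ⟨a, haS, haB⟩ : ∃ a ∈ Sset D d, a ∈ B := by
    obtain ⟨w, hw, hne⟩ : ∃ w ∈ B, w ≠ d := by
      obtain ⟨w, hw, hne⟩ := hnt.exists_ne b₀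
      refine ⟨g₀⁻¹ * w * g₀⁻¹⁻¹, by rw [hB]; exact ⟨w, hw, rfl⟩, fun e => hne ?_⟩
      calc w = g₀ * (g₀⁻¹ * w * g₀⁻¹⁻¹) * g₀⁻¹ := by group
        _ = b₀ := by rw [show g₀⁻¹ * w * g₀⁻¹⁻¹ = d from e, hg₀]
    by_cases hwd : Commute d w
    · exact ⟨w, ⟨hBD hw, hne, hwd⟩, hw⟩
    obtain ⟨e, he, hwe⟩ : ∃ e ∈ Sset D d, ¬ Commute w e := by
      by_contra hno
      push Not at hno
      exact hwd (hstar w hno).symm
    obtain ⟨h1, h2⟩ := pair (hBD hw) he (fun h => hwd h.symm) hwe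
    have hfix : cjs (e * d) B = B := fixB hdB (by
      rw [show e * d * d * (e * d)⁻¹ = e * d * e⁻¹ by group, ← he.2.2.eq, mul_inv_cancel_right]
      exact hdB)
    have hw' : e * d * w * (e * d)⁻¹ ∈ B := hfix ▸ mem_cjs.2 hw
    obtain ⟨k, hk⟩ := htrans w (hBD hw)
    have hkB : cjs k B = B := fixB hdB (hk ▸ hw)
    refine ⟨k⁻¹ * (e * d * w * (e * d)⁻¹) * k⁻¹⁻¹, ⟨hconj _ _ (hBD hw'), ?_, ?_⟩, ?_⟩
    · intro e'
      refine h2 ?_
      rw [← hk] at e' ⊢
      calc e * d * (k * d * k⁻¹) * (e * d)⁻¹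
          = k * (k⁻¹ * (e * d * (k * d * k⁻¹) * (e * d)⁻¹) * k⁻¹⁻¹) * k⁻¹ := by group
        _ = k * d * k⁻¹ := by rw [e']
    · rw [← H17.commute_conj k, hk,
        show k * (k⁻¹ * (e * d * w * (e * d)⁻¹) * k⁻¹⁻¹) * k⁻¹ = e * d * w * (e * d)⁻¹ by group]
      exact h1
    · have h3 : k * (k⁻¹ * (e * d * w * (e * d)⁻¹) * k⁻¹⁻¹) * k⁻¹ ∈ cjs k B := by
        rw [show k * (k⁻¹ * (e * d * w * (e * d)⁻¹) * k⁻¹⁻¹) * k⁻¹ = e * d * w * (e * d)⁻¹ by group,
          hkB]
        exact hw'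
      exact mem_cjs.1 h3
  have hcd : ∀ {g : G}, Commute g d → g * d * g⁻¹ = d := fun {g} h => by
    rw [h.eq, mul_inv_cancel_right]
  have starB : ∀ x ∈ Sset D d, x ∈ B := by
    intro x hx
    obtain ⟨g, hg, rfl⟩ := htr a haS x hx
    rw [← fixB hdB (g := g) (by rw [hcd hg]; exact hdB)]
    exact mem_cjs.2 haB
  have closed : ∀ k : G, ∀ y ∈ D, y ∈ Sset D (k * d * k⁻¹) → y ∈ cjs k B := by
    intro k y _ hy
    obtain ⟨y, rfl⟩ : ∃ y', k * y' * k⁻¹ = y := ⟨k⁻¹ * y * k, by group⟩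
    exact mem_cjs.2 (starB y ((sset_conj hconj k).1 hy))
  -- the kernel on the translates
  let S : Subgroup G :=
    { carrier := {g | ∀ k : G, cjs g (cjs k B) = cjs k B}
      one_mem' := fun k => cjs_one _
      mul_mem' := fun {g h} hg hh k => by rw [cjs_mul, hh k, hg k]
      inv_mem' := fun {g} hg k => by
        conv_lhs => rw [← hg k, ← cjs_mul, inv_mul_cancel, cjs_one] }
  haveI hS : S.Normal := ⟨fun g hg h k => by
    rw [← cjs_mul, show h * g * h⁻¹ * k = h * (g * (h⁻¹ * k)) by group, cjs_mul, cjs_mul, hg,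
      ← cjs_mul, mul_inv_cancel_left]⟩
  have hed : ∀ e ∈ Sset D d, e * d ∈ S := by
    intro e he k
    obtain ⟨c, hc⟩ : ∃ c, k * d * k⁻¹ = c := ⟨_, rfl⟩
    have hcD : c ∈ D := hc ▸ hconj k d hdD
    have hcB : c ∈ cjs k B := hc ▸ mem_cjs.2 hdB
    have hBfix : cjs (e * d) B = B := fixB hdB (by
      rw [hcd (Commute.mul_left he.2.2.symm (Commute.refl d))]; exact hdB)
    have caseB : cjs k B = B → cjs (e * d) (cjs k B) = cjs k B := fun h => by rw [h, hBfix]
    by_cases hcd' : Commute c d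
    · refine caseB ((meet hcB ?_).trans (cjs_one B))
      rw [cjs_one]
      by_cases e' : c = d
      · exact e' ▸ hdB
      · exact starB c ⟨hcD, e', hcd'.symm⟩
    by_cases hce : Commute c e
    · refine caseB ((meet (x := e) ?_ ?_).trans (cjs_one B))
      · refine closed k e he.1 ?_
        rw [hc]
        exact ⟨he.1, fun h => hcd' (h ▸ he.2.2.symm), hce⟩
      · rw [cjs_one]; exact starB e he
    obtain ⟨h1, h2⟩ := pair hcD he hcd' hce
    rw [← cjs_mul]
    refine meet (x := e * d * c * (e * d)⁻¹) ?_ ?_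
    · rw [cjs_mul]; exact mem_cjs.2 hcB
    · refine closed k _ (hconj _ c hcD) ?_
      rw [hc]
      exact ⟨hconj _ c hcD, h2, h1⟩
  have hCS : ∀ u, Commute u d → u ∈ S := by
    let q := QuotientGroup.mk' S
    have hz : ∀ u ∈ Subgroup.closure (Sset D d), q u ∈ Subgroup.zpowers (q d) := by
      intro u hu
      induction hu using Subgroup.closure_induction with
      | mem e he =>
        have h1 : q (e * d) = 1 := (QuotientGroup.eq_one_iff _).2 (hed e he)
        rw [map_mul] at h1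
        rw [eq_inv_of_mul_eq_one_left h1]
        exact inv_mem (Subgroup.mem_zpowers _)
      | one => rw [map_one]; exact one_mem _
      | mul a b _ _ ha hb => rw [map_mul]; exact mul_mem ha hb
      | inv a _ ha => rw [map_inv]; exact inv_mem ha
    have hle : commutator ↥(Subgroup.centralizer ({d} : Set G)) ≤
        (q.comp (Subgroup.centralizer ({d} : Set G)).subtype).ker := by
      rw [commutator_eq_closure, Subgroup.closure_le]
      rintro _ ⟨⟨u, hu⟩, ⟨v, hv⟩, rfl⟩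
      have hu' := hz u (hgen.symm ▸ hu)
      have hv' := hz v (hgen.symm ▸ hv)
      obtain ⟨i, hi⟩ := Subgroup.mem_zpowers_iff.1 hu'
      obtain ⟨j, hj⟩ := Subgroup.mem_zpowers_iff.1 hv'
      have hc : Commute (q u) (q v) := hi ▸ hj ▸ (Commute.refl (q d)).zpow_zpow i j
      rw [SetLike.mem_coe, MonoidHom.mem_ker, map_commutatorElement]
      exact commutatorElement_eq_one_iff_commute.2 hc
    intro u hu
    have h : (⟨u, Subgroup.mem_centralizer_singleton_iff.2 hu.eq⟩ :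
        ↥(Subgroup.centralizer ({d} : Set G))) ∈ commutator _ := hperf ▸ Subgroup.mem_top _
    exact (QuotientGroup.eq_one_iff _).1 (hle h)
  have hDS : ∀ x ∈ D, x ∈ S := fun x hx => by
    obtain ⟨g, rfl⟩ := htrans x hx
    exact hS.conj_mem d (hCS d (Commute.refl d)) g
  have hBeq : B = D := by
    refine Set.Subset.antisymm hBD fun c hc => ?_
    by_cases hdc : Commute d c
    · by_cases e : c = d
      · exact e ▸ hdB
      · exact starB c ⟨hc, e, hdc⟩
    obtain ⟨k, hk⟩ := htrans c hc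
    have h1 : c * d * c⁻¹ ∈ B := by
      have := hDS c hc 1
      rw [cjs_one] at this
      exact this ▸ mem_cjs.2 hdB
    have h2 : d * c * d⁻¹ ∈ cjs k B := by
      have := hDS d hdD k
      exact this ▸ mem_cjs.2 (hk ▸ mem_cjs.2 hdB)
    rw [inv hc] at h1
    rw [inv hdD, braid hdD hc hdc] at h2
    have := meet h2 (k := 1) (by rwa [cjs_one])
    rw [cjs_one] at this
    exact this ▸ hk ▸ mem_cjs.2 hdB
  refine Set.Subset.antisymm hB₀D fun x hx => ?_
  have : g₀⁻¹ * x * g₀⁻¹⁻¹ ∈ B := hBeq ▸ hconj _ x hx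
  rw [hB] at this
  exact mem_cjs.1 this

end Cfsg.Agent.H87.Fi23A
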