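import Cfsg.Agent.H43.FactorUnique
import Cfsg.Agent.H53.TypeWitness

/-! Classes with trivial centre and a quotient of type M(22) around one member: no twins, products of
at most three commuting members determine their factors. -/

set_option autoImplicit false

namespace Cfsg.Agent.H87.Fi23A

open Cfsg.Agent.H43.FischerTwins Cfsg.Agent.H43.FactorUnique


variable {G : Type*} [Group G] [Finite G] {D : Set G}

/-- Trivial centre and, around one member, a quotient of type M(22). -/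
structure Near23 (D : Set G) : Prop where
  cen : Subgroup.center G = ⊥
  near : ∃ d ∈ D, Cfsg.IsOfTypeM22 (H53.NearQuot D d) (H53.nearImage D d)

/-- The witness of the type, seen inside the group. -/
theorem type_witness (hD : Cfsg.IsThreeTranspositionClass D)
    (hprim : Cfsg.IsPrimitiveUnderConj D)
    (h : Near23 D) :
    (∀ a ∈ D, ∀ b ∈ Sset D a, ∃ x ∈ Sset D a, ¬ Commute b x) ∧
    ∃ d ∈ D, ∃ b ∈ Sset D d, ∀ u v, H17.Vrel (Sset D d ∩ Sset D b) u v → u ≠ v →
      ∀ x ∈ Sset D d ∩ Sset D b, Commute u x := by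
  have key : ∃ d ∈ D, ∃ p ∈ ((QuotientGroup.mk : ↥(Subgroup.closure (Sset D d)) →
        ↥(Subgroup.closure (Sset D d)) ⧸ Subgroup.center ↥(Subgroup.closure (Sset D d))) ''
        {x | (x : G) ∈ Sset D d}), ∃ q ∈ ((QuotientGroup.mk : ↥(Subgroup.closure (Sset D d)) →
        ↥(Subgroup.closure (Sset D d)) ⧸ Subgroup.center ↥(Subgroup.closure (Sset D d))) ''
        {x | (x : G) ∈ Sset D d}), ¬ Commute p q ∧
      (Cfsg.IsThreeTranspositionGroup ((QuotientGroup.mk : ↥(Subgroup.closure (Sset D d)) →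
          ↥(Subgroup.closure (Sset D d)) ⧸ Subgroup.center ↥(Subgroup.closure (Sset D d))) ''
          {x | (x : G) ∈ Sset D d}) →
        ∀ u v, H17.Vrel (Sset ((QuotientGroup.mk : ↥(Subgroup.closure (Sset D d)) →
          ↥(Subgroup.closure (Sset D d)) ⧸ Subgroup.center ↥(Subgroup.closure (Sset D d))) ''
          {x | (x : G) ∈ Sset D d}) p) u v → u ≠ v →
        ∀ x ∈ Sset ((QuotientGroup.mk : ↥(Subgroup.closure (Sset D d)) →
          ↥(Subgroup.closure (Sset D d)) ⧸ Subgroup.center ↥(Subgroup.closure (Sset D d))) ''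
          {x | (x : G) ∈ Sset D d}) p, Commute u x) := by
    obtain ⟨d, hd, hX⟩ := h.near
    obtain ⟨-, p, hp, q, hq, hpq, ⟨F, _, _, hF, iso⟩, -⟩ := hX
    exact ⟨d, hd, p, hp, q, hq, hpq, fun hE u v huv hne => psu_near hE hF iso huv hne⟩
  obtain ⟨d, hd, p, ⟨b, hb, rfl⟩, q, ⟨y, hy, rfl⟩, hpq, hnear⟩ := key
  have hnc := near_noncentral hD hprim
    ⟨d, hd, (b : G), hb, (y : G), hy, fun e => hpq ((commute_coe.1 e).map (QuotientGroup.mk' _))⟩
  refine ⟨hnc, d, hd, b, hb, ?_⟩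
  have hG := H17.class_group hD
  have hH := sub_group hG (Sset D d) (fun y hy => hy.1)
    (fun s hs t ht => sset_stable hG d hs ht)
  have hncen : ∀ x : ↥(Subgroup.closure (Sset D d)), (x : G) ∈ Sset D d →
      x ∉ Subgroup.center ↥(Subgroup.closure (Sset D d)) := fun x hx hc => by
    obtain ⟨z, hz, hxz⟩ := hnc d hd x hx
    exact hxz (congrArg Subtype.val
      (Subgroup.mem_center_iff.mp hc ⟨z, Subgroup.subset_closure hz⟩)).symm
  have hE := quot_group hH
  rw [Set.diff_singleton_eq_self (by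
    rintro ⟨x, hx, h1⟩
    exact hncen x hx ((QuotientGroup.eq_one_iff x).mp h1))] at hE
  intro u v huv hne x hx
  have mem : ∀ w : ↥(Subgroup.closure (Sset D d)), (w : G) ∈ Sset D d ∩ Sset D (b : G) →
      (w : ↥(Subgroup.closure (Sset D d)) ⧸ Subgroup.center ↥(Subgroup.closure (Sset D d))) ∈
        Sset ((QuotientGroup.mk : ↥(Subgroup.closure (Sset D d)) →
          ↥(Subgroup.closure (Sset D d)) ⧸ Subgroup.center ↥(Subgroup.closure (Sset D d))) ''
          {x | (x : G) ∈ Sset D d}) (b : ↥(Subgroup.closure (Sset D d)) ⧸ _) := by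
    intro w hw
    refine ⟨⟨w, hw.1, rfl⟩, fun e => hw.2.2.1 ?_, (mk_commute hH hb hw.1).2 (commute_coe.1 hw.2.2.2)⟩
    exact congrArg Subtype.val (mk_inj hH hw.1 hb (hncen w hw.1) e)
  let u' : ↥(Subgroup.closure (Sset D d)) := ⟨u, Subgroup.subset_closure huv.1.1⟩
  let v' : ↥(Subgroup.closure (Sset D d)) := ⟨v, Subgroup.subset_closure huv.2.1.1⟩
  let x' : ↥(Subgroup.closure (Sset D d)) := ⟨x, Subgroup.subset_closure hx.1⟩
  have hu : (u' : G) ∈ Sset D d := huv.1.1
  have hv : (v' : G) ∈ Sset D d := huv.2.1.1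
  have hvr : H17.Vrel (Sset ((QuotientGroup.mk : ↥(Subgroup.closure (Sset D d)) →
      ↥(Subgroup.closure (Sset D d)) ⧸ Subgroup.center ↥(Subgroup.closure (Sset D d))) ''
      {x | (x : G) ∈ Sset D d}) (b : ↥(Subgroup.closure (Sset D d)) ⧸ _)) u' v' := by
    refine ⟨mem u' huv.1, mem v' huv.2.1, ?_⟩
    rintro _ ⟨⟨e, he, rfl⟩, hne', hc'⟩
    rw [mk_commute hH hv he, mk_commute hH hu he, ← commute_coe, ← commute_coe]
    refine huv.2.2 _ ⟨he, he.1, fun e' => hne' ?_, commute_coe.2 ((mk_commute hH hb he).1 hc')⟩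
    rw [Subtype.ext e']
  have h1 := hnear hE _ _ hvr (fun e => hne (congrArg Subtype.val (mk_inj hH hu hv (hncen _ hu) e)))
    x' (mem x' hx)
  exact commute_coe.2 ((mk_commute hH hu (show (x' : G) ∈ Sset D d from hx.1)).1 h1)

/-- No twins among the partners of one member, and only central ones among those of two. -/
theorem no_twins_near (hD : Cfsg.IsThreeTranspositionClass D)
    (hprim : Cfsg.IsPrimitiveUnderConj D) {d₀ : G} (hd₀ : d₀ ∈ D)
    (h2 : Cfsg.pCore 2 ↥(Subgroup.closure (Sset D d₀)) ≤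
      Subgroup.center ↥(Subgroup.closure (Sset D d₀)))
    (h : Near23 D) :
    (∀ a ∈ D, ∀ b c, H17.Vrel (Sset D a) b c → b = c) ∧
    (∀ a ∈ D, ∀ b ∈ Sset D a, ∀ u v, H17.Vrel (Sset D a ∩ Sset D b) u v → u ≠ v →
      ∀ x ∈ Sset D a ∩ Sset D b, Commute u x) ∧
    ∃ a ∈ D, ∃ b ∈ D, a ≠ b ∧ Commute a b := by
  have hconj := H17.class_conj hD
  have hG := H17.class_group hD
  obtain ⟨hnc, d, hd, b₀, hb₀, hlev⟩ := type_witness hD hprim h
  have hw : ∃ a ∈ D, ∃ b ∈ D, a ≠ b ∧ Commute a b :=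
    ⟨d, hd, b₀, hb₀.1, hb₀.2.1.symm, hb₀.2.2⟩
  refine ⟨fun a ha b c hbc => ?_, fun a ha b hb u v huv hne x hx => ?_, hw⟩
  · by_contra hne
    obtain ⟨g, hg⟩ := H17.class_transitive hD ha hd₀
    have hbc' : H17.Vrel (Sset D d₀) (g * b * g⁻¹) (g * c * g⁻¹) := by
      rw [← hg]
      refine ⟨(sset_conj hconj g).2 hbc.1, (sset_conj hconj g).2 hbc.2.1, fun e he => ?_⟩
      obtain ⟨e', rfl⟩ : ∃ e', g * e' * g⁻¹ = e := ⟨g⁻¹ * e * g, by group⟩
      rw [H17.commute_conj, H17.commute_conj]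
      exact hbc.2.2 e' ((sset_conj hconj g).1 he)
    obtain ⟨x, hx, hxb⟩ := hnc d₀ hd₀ _ hbc'.1
    exact hxb (set_twins_commute hG _ (fun y hy => hy.1)
      (fun s hs t ht => sset_stable hG d₀ hs ht) h2 hbc' (by simpa using hne) x hx)
  · obtain ⟨g, hg⟩ := H17.class_transitive hD ha hd
    have hb' := (sset_conj hconj g).2 hb
    rw [hg] at hb'
    obtain ⟨k, hk, hkb⟩ := H17.transitive_near hD hprim hw hd hb'.1 hb₀.1 hb'.2.1 hb₀.2.1
      hb'.2.2 hb₀.2.2
    obtain ⟨m, hm⟩ : ∃ m, m = k * g := ⟨_, rfl⟩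
    have hma : m * a * m⁻¹ = d := by
      rw [hm, show k * g * a * (k * g)⁻¹ = k * (g * a * g⁻¹) * k⁻¹ by group, hg,
        ← (H17.centGen_commute hk).eq, mul_inv_cancel_right]
    have hmb : m * b * m⁻¹ = b₀ := by
      rw [hm, ← hkb]; group
    have hmem : ∀ y, m * y * m⁻¹ ∈ Sset D d ∩ Sset D b₀ ↔ y ∈ Sset D a ∩ Sset D b := fun y => by
      rw [← hma, ← hmb, Set.mem_inter_iff, sset_conj hconj, sset_conj hconj, Set.mem_inter_iff]
    have h1 : H17.Vrel (Sset D d ∩ Sset D b₀) (m * u * m⁻¹) (m * v * m⁻¹) := by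
      refine ⟨(hmem u).2 huv.1, (hmem v).2 huv.2.1, fun e he => ?_⟩
      obtain ⟨e', rfl⟩ : ∃ e', m * e' * m⁻¹ = e := ⟨m⁻¹ * e * m, by group⟩
      rw [H17.commute_conj, H17.commute_conj]
      exact huv.2.2 e' ((hmem e').1 he)
    exact (H17.commute_conj m).1 (hlev _ _ h1 (by simpa using hne) _ ((hmem x).2 hx))

/-- Products of at most three distinct commuting members determine their factors. -/
theorem factors_unique (hG : Cfsg.IsThreeTranspositionGroup D)
    (hprim : Cfsg.IsPrimitiveUnderConj D) {d₀ : G} (hd₀ : d₀ ∈ D)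
    (h2 : Cfsg.pCore 2 ↥(Subgroup.closure (Sset D d₀)) ≤
      Subgroup.center ↥(Subgroup.closure (Sset D d₀)))
    (h : Near23 D) {m : ℕ} (hm : m ≤ 3) {j : G} (l l' : List G)
    (hl : l.Nodup ∧ l.length = m ∧ (∀ a ∈ l, a ∈ D) ∧ (∀ a ∈ l, ∀ b ∈ l, Commute a b) ∧
      l.prod = j)
    (hl' : l'.Nodup ∧ l'.length = m ∧ (∀ a ∈ l', a ∈ D) ∧ (∀ a ∈ l', ∀ b ∈ l', Commute a b) ∧
      l'.prod = j) : ∀ x ∈ l, x ∈ l' := by
  obtain ⟨hclass, -⟩ := H17.class_of_primitive hG hprim
  obtain ⟨hV1, hV2, hw⟩ := no_twins_near hclass hprim hd₀ h2 h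
  have hV : ∀ p q, H17.Vrel D p q → p = q := fun p q => H17.vrel_eq hclass hprim hw
  obtain ⟨hn, hlen, hlD, hlc, hp⟩ := hl
  obtain ⟨hn', hlen', hlD', hlc', hp'⟩ := hl'
  subst hlen
  match l, l' with
  | [], _ => simp
  | [a], [b] => simp_all
  | [a, b], [c, d] =>
    simp only [List.nodup_cons, List.mem_cons, List.not_mem_nil, or_false, not_false_eq_true,
      List.nodup_nil, and_true] at hn hn'
    simp only [List.mem_cons, List.not_mem_nil, or_false, forall_eq_or_imp, forall_eq] at hlD hlD'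
    have hab := hlc a (by simp) b (by simp)
    have hcd := hlc' c (by simp) d (by simp)
    have heq : a * b = c * d := by simpa using hp.trans hp'.symm
    intro x hx
    simp only [List.mem_cons, List.not_mem_nil, or_false] at hx ⊢
    rcases hx with rfl | rfl
    · exact pair_unique hG.1 hG.2.1 hV hlD.1 hlD.2 hlD'.1 hlD'.2 hab hn hcd heq
    · exact pair_unique hG.1 hG.2.1 hV hlD.2 hlD.1 hlD'.1 hlD'.2 hab.symm (Ne.symm hn) hcd
        (hab.eq.symm.trans heq)
  | [a, b, c], [d, e, f] =>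
    simp only [List.nodup_cons, List.mem_cons, List.not_mem_nil, or_false, not_false_eq_true,
      List.nodup_nil, and_true, not_or] at hn hn'
    simp only [List.mem_cons, List.not_mem_nil, or_false, forall_eq_or_imp, forall_eq] at hlD hlD'
    obtain ⟨⟨m1, m2⟩, m3⟩ := hn
    obtain ⟨⟨n1, n2⟩, n3⟩ := hn'
    obtain ⟨ha, hb, hc⟩ := hlD
    obtain ⟨hd, he, hf⟩ := hlD'
    have hab := hlc a (by simp) b (by simp)
    have hac := hlc a (by simp) c (by simp)
    have hbc := hlc b (by simp) c (by simp)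
    have hde := hlc' d (by simp) e (by simp)
    have hdf := hlc' d (by simp) f (by simp)
    have hef := hlc' e (by simp) f (by simp)
    have heq : a * b * c = d * e * f := by simpa [mul_assoc] using hp.trans hp'.symm
    intro x hx
    simp only [List.mem_cons, List.not_mem_nil, or_false] at hx ⊢
    rcases hx with rfl | rfl | rfl
    · exact triple_unique hG.1 hG.2.1 hV hV1 hV2 ha hb hc hd he hf hab hac hbc hde hdf hef
        m1 m2 m3 n1 n2 n3 heq
    · exact triple_unique hG.1 hG.2.1 hV hV1 hV2 hb ha hc hd he hf hab.symm hbc hac hde hdf hef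
        (Ne.symm m1) m3 m2 n1 n2 n3 (by rw [← hab.eq]; exact heq)
    · exact triple_unique hG.1 hG.2.1 hV hV1 hV2 hc ha hb hd he hf hac.symm hbc.symm hab hde hdf
        hef (Ne.symm m2) (Ne.symm m3) m1 n1 n2 n3
        (by rw [mul_assoc, ← (hac.mul_left hbc).eq]; exact heq)
  | _ :: _ :: _ :: _ :: _, _ =>
    simp only [List.length_cons] at hm
    omega
  | [_], [] => simp at hlen'
  | [_], _ :: _ :: _ => simp at hlen'
  | [_, _], [] => simp at hlen'
  | [_, _], [_] => simp at hlen'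
  | [_, _], _ :: _ :: _ :: _ => simp at hlen'
  | [_, _, _], [] => simp at hlen'
  | [_, _, _], [_] => simp at hlen'
  | [_, _, _], [_, _] => simp at hlen'
  | [_, _, _], _ :: _ :: _ :: _ :: _ => simp at hlen'


end Cfsg.Agent.H87.Fi23A
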